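import Cfsg.Agent.H901.Sl.JJ
import Cfsg.Agent.H577.GLB.Fam
import Cfsg.Agent.H623.GLn.Cop

/-!
# S4536, P5GL: the parabolic subgroup `GL_a × GL_b ⋉ Hom(F^b, F^a)` of `GL_n(F)`

* `uhom e` : the unipotent radical, parametrized by `Hom(F^b, F^a)`; `Ur e` its range;
* `card_Ur`, `conj_mem_Ur`, `disjoint_Ur`, `Ur_le`, `sup_slS` : its properties;
* `hcRes_Om` : Harish-Chandra restriction is the coproduct of the standard model.
-/

set_option autoImplicit false
set_option linter.unusedSectionVars false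

open Cfsg Polynomial
open scoped MatrixGroups TensorProduct

namespace Cfsg.Agent.H139.P5GL

open Cfsg.Agent.H624.Sl Cfsg.Agent.H577.GLB Cfsg.Agent.H577.GLB.Real Cfsg.Agent.H577.GLB.Std
open Cfsg.Agent.H901.Sl (ext_mulVec jj_injective det_jj)
open Cfsg.Agent.H623.GLn (evT Dl blk avg avg_equiv shear shear_apply blk_apply)
open Cfsg.Agent.H614.GLn (Fam)

universe u w

variable {F : Type u} [Field F] [Finite F] {a b n : ℕ} (e : ((Fin a → F) × (Fin b → F)) ≃ₗ[F] (Fin n → F))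

/-- the shear as an element of `GL_n(F)` -/
noncomputable def uu (t : (Fin b → F) →ₗ[F] (Fin a → F)) : GL (Fin n) F :=
  (glE F n).symm ((e.symm.trans (shear t)).trans e)

theorem uu_mulVec (t : (Fin b → F) →ₗ[F] (Fin a → F)) (v : Fin a → F) (w : Fin b → F) :
    (uu e t).1.mulVec (e (v, w)) = e (v + t w, w) := by
  rw [← glE_apply, uu, MulEquiv.apply_symm_apply]
  change e (shear t (e.symm (e (v, w)))) = _
  rw [e.symm_apply_apply, shear_apply]

theorem ext_e {g h : GL (Fin n) F} (H : ∀ (v : Fin a → F) (w : Fin b → F),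
    g.1.mulVec (e (v, w)) = h.1.mulVec (e (v, w))) : g = h := by
  refine ext_mulVec fun x => ?_
  obtain ⟨⟨v, w⟩, rfl⟩ := e.surjective x
  exact H v w

theorem mul_mulVec (g h : GL (Fin n) F) (x : Fin n → F) : (g * h).1.mulVec x = g.1.mulVec (h.1.mulVec x) := by
  rw [Units.val_mul, Matrix.mulVec_mulVec]

theorem uu_add (t t' : (Fin b → F) →ₗ[F] (Fin a → F)) : uu e (t + t') = uu e t * uu e t' := by
  refine ext_e e fun v w => ?_
  rw [mul_mulVec, uu_mulVec, uu_mulVec, uu_mulVec, LinearMap.add_apply]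
  congr 2
  abel

/-- the unipotent radical as a homomorphism -/
noncomputable def uhom : Multiplicative ((Fin b → F) →ₗ[F] (Fin a → F)) →* GL (Fin n) F :=
  MonoidHom.mk' (fun t => uu e t.toAdd) fun t t' => uu_add e t.toAdd t'.toAdd

theorem uhom_apply (t : (Fin b → F) →ₗ[F] (Fin a → F)) : uhom e (Multiplicative.ofAdd t) = uu e t := rfl

theorem uu_injective : Function.Injective (uu e) := by
  intro t t' h
  refine LinearMap.ext fun w => ?_
  have h1 := uu_mulVec e t 0 w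
  rw [h, uu_mulVec] at h1
  have h2 := congrArg Prod.fst (e.injective h1)
  simpa using h2.symm

/-- the unipotent radical -/
noncomputable def Ur : Subgroup (GL (Fin n) F) := (uhom e).range

theorem uu_mem (t : (Fin b → F) →ₗ[F] (Fin a → F)) : uu e t ∈ Ur e := ⟨Multiplicative.ofAdd t, rfl⟩

theorem mem_Ur {g : GL (Fin n) F} : g ∈ Ur e ↔ ∃ t, uu e t = g :=
  ⟨fun ⟨t, ht⟩ => ⟨t.toAdd, ht⟩, fun ⟨t, ht⟩ => ht ▸ uu_mem e t⟩

/-- the parametrization of the unipotent radical -/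
noncomputable def urE : ((Fin b → F) →ₗ[F] (Fin a → F)) ≃ Ur e :=
  Equiv.ofBijective (fun t => ⟨uu e t, uu_mem e t⟩)
    ⟨fun _ _ h => uu_injective e (congrArg Subtype.val h), fun ⟨_, h⟩ => by
      obtain ⟨t, rfl⟩ := (mem_Ur e).1 h
      exact ⟨t, rfl⟩⟩

theorem urE_coe (t : (Fin b → F) →ₗ[F] (Fin a → F)) : (urE e t : GL (Fin n) F) = uu e t := rfl

theorem card_Ur {p : ℕ} (hp : p.Prime) (hpF : p ≠ ringChar F) : (Nat.card (Ur e)).Coprime p := by
  have hr : (ringChar F).Prime := CharP.char_is_prime F _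
  have := Fintype.ofFinite F
  obtain ⟨k, -, hk⟩ := FiniteField.card F (ringChar F)
  have h1 : Nat.card (Ur e) = Nat.card ((Fin b → F) →ₗ[F] (Fin a → F)) := (Nat.card_congr (urE e)).symm
  rw [h1, Module.natCard_eq_pow_finrank (K := F), Nat.card_eq_fintype_card, hk, ← pow_mul]
  exact Nat.Coprime.pow_left _ ((Nat.coprime_primes hr hp).2 (Ne.symm hpF))

theorem jj_uu (A : GL (Fin a) F) (B : GL (Fin b) F) (t : (Fin b → F) →ₗ[F] (Fin a → F)) :
    jj (K := F) e (A, B) * uu e t = uu e (Matrix.toLin' A.1 ∘ₗ t ∘ₗ Matrix.toLin' (B⁻¹).1) * jj (K := F) e (A, B) := by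
  refine ext_e e fun v w => ?_
  rw [mul_mulVec, mul_mulVec, uu_mulVec, jj_mulVec, jj_mulVec, uu_mulVec]
  congr 2
  rw [Matrix.mulVec_add]
  congr 1
  simp only [LinearMap.comp_apply, Matrix.toLin'_apply]
  rw [Matrix.mulVec_mulVec, ← Units.val_mul, inv_mul_cancel, Units.val_one, Matrix.one_mulVec]

theorem conj_mem_Ur : ∀ l ∈ (jj (K := F) e).range, ∀ x ∈ Ur e, l * x * l⁻¹ ∈ Ur e := by
  rintro _ ⟨⟨A, B⟩, rfl⟩ x hx
  obtain ⟨t, rfl⟩ := (mem_Ur e).1 hx
  rw [jj_uu, mul_inv_cancel_right]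
  exact uu_mem e _

theorem disjoint_Ur : Disjoint (jj (K := F) e).range (Ur e) := by
  rw [Subgroup.disjoint_def]
  rintro _ ⟨⟨A, B⟩, rfl⟩ hx
  obtain ⟨t, ht⟩ := (mem_Ur e).1 hx
  have h1 : ∀ v w, (v + t w, w) = (A.1.mulVec v, B.1.mulVec w) := by
    intro v w
    apply e.injective
    rw [← uu_mulVec, ht, jj_mulVec]
  have hA : A = 1 := ext_mulVec fun v => by
    have h2 := congrArg Prod.fst (h1 v 0)
    rw [map_zero, add_zero] at h2
    rw [Units.val_one, Matrix.one_mulVec]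
    exact h2.symm
  have hB : B = 1 := ext_mulVec fun w => by
    have h2 := congrArg Prod.snd (h1 0 w)
    rw [Units.val_one, Matrix.one_mulVec]
    exact h2.symm
  rw [hA, hB]
  exact map_one _

theorem Ur_le : Ur e ≤ slS F n := by
  intro x hx
  obtain ⟨t, rfl⟩ := (mem_Ur e).1 hx
  have hr : (ringChar F).Prime := CharP.char_is_prime F _
  have := Fact.mk hr
  have h1 : (uu e t) ^ (ringChar F) = 1 := by
    rw [← uhom_apply, ← map_pow, ← ofAdd_nsmul]
    have h2 : (ringChar F) • t = 0 := by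
      rw [← Nat.cast_smul_eq_nsmul F, CharP.cast_eq_zero, zero_smul]
    rw [h2, ofAdd_zero, map_one]
  have h2 : (Matrix.GeneralLinearGroup.det (uu e t)) ^ (ringChar F) = 1 := by rw [← map_pow, h1, map_one]
  rw [slS, MonoidHom.mem_ker]
  apply Units.ext
  have h3 : ((Matrix.GeneralLinearGroup.det (uu e t) : Fˣ) : F) ^ (ringChar F) = 1 := by
    rw [← Units.val_pow_eq_pow_val, h2, Units.val_one]
  have h4 : (((Matrix.GeneralLinearGroup.det (uu e t) : Fˣ) : F) - 1) ^ (ringChar F) = 0 := by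
    rw [sub_pow_char, h3, one_pow, sub_self]
  exact sub_eq_zero.1 (pow_eq_zero_iff hr.ne_zero |>.1 h4)

theorem nrm_self (y : Fˣ) : nrm F F y = y := by
  apply Units.ext
  change Algebra.norm F (y : F) = y
  rw [Algebra.norm_self]
  rfl

theorem det_jj' (A : GL (Fin a) F) (B : GL (Fin b) F) : Matrix.GeneralLinearGroup.det (jj (K := F) e (A, B)) =
    Matrix.GeneralLinearGroup.det A * Matrix.GeneralLinearGroup.det B := by
  rw [det_jj, nrm_self]

theorem sup_slS (hb : 0 < b) {N : Subgroup (GL (Fin n) F)} (hN : slS F n ≤ N) : (jj (K := F) e).range ⊔ N = ⊤ := by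
  rw [eq_top_iff]
  intro g _
  have : Nonempty (Fin b) := ⟨⟨0, hb⟩⟩
  obtain ⟨B, hB⟩ := Matrix.GeneralLinearGroup.det_surjective (n := Fin b) (Matrix.GeneralLinearGroup.det g)
  have h1 : (jj (K := F) e (1, B))⁻¹ * g ∈ slS F n := by
    rw [slS, MonoidHom.mem_ker, map_mul, map_inv, det_jj', map_one, one_mul, hB, inv_mul_cancel]
  have h2 : g = jj (K := F) e (1, B) * ((jj (K := F) e (1, B))⁻¹ * g) := by rw [mul_inv_cancel_left]
  rw [h2]
  exact Subgroup.mul_mem_sup ⟨_, rfl⟩ (hN h1)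

/-! ### Harish-Chandra restriction -/

variable {K : Type w} [Field K] [Algebra F K] (θ : K →*₀ ℂ) (M : ℕ)

theorem fn_jj_uu (f : Fam F) (A : GL (Fin a) F) (B : GL (Fin b) F) (t : (Fin b → F) →ₗ[F] (Fin a → F)) :
    f.fn (Fin n → F) (Matrix.toLin' (jj (K := F) e (A, B) * uu e t : GL (Fin n) F).1) =
      f.fn ((Fin a → F) × (Fin b → F)) (blk (Matrix.toLin' A.1) (Matrix.toLin' A.1 ∘ₗ t) (Matrix.toLin' B.1)) := by
  refine f.conj' e ?_
  rintro ⟨v, w⟩
  rw [Matrix.toLin'_apply, mul_mulVec, uu_mulVec, jj_mulVec, blk_apply]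
  congr 2
  rw [Matrix.mulVec_add]
  rfl

/-- composition with an automorphism -/
noncomputable def cmpE (A : GL (Fin a) F) : ((Fin b → F) →ₗ[F] (Fin a → F)) ≃ ((Fin b → F) →ₗ[F] (Fin a → F)) where
  toFun t := Matrix.toLin' A.1 ∘ₗ t
  invFun t := Matrix.toLin' (A⁻¹).1 ∘ₗ t
  left_inv t := by
    change Matrix.toLin' (A⁻¹).1 ∘ₗ Matrix.toLin' A.1 ∘ₗ t = t
    rw [← LinearMap.comp_assoc, ← Matrix.toLin'_mul, ← Units.val_mul, inv_mul_cancel, Units.val_one,
      Matrix.toLin'_one, LinearMap.id_comp]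
  right_inv t := by
    change Matrix.toLin' A.1 ∘ₗ Matrix.toLin' (A⁻¹).1 ∘ₗ t = t
    rw [← LinearMap.comp_assoc, ← Matrix.toLin'_mul, ← Units.val_mul, mul_inv_cancel, Units.val_one,
      Matrix.toLin'_one, LinearMap.id_comp]

/-- **Harish-Chandra restriction is the coproduct.** -/
theorem hcRes_Om (x : RS M) (A : GL (Fin a) F) (B : GL (Fin b) F) (h : (jj (K := F) e).range)
    (hh : jj (K := F) e (A, B) = h) :
    hcRes (jj (K := F) e).range (Ur e) (Om (F := F) θ M n x) h =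
      evT θ M (Matrix.toLin' A.1) (Matrix.toLin' B.1) (coP M x) := by
  have h0 := Cfsg.Agent.H623.GLn.Dl_piA θ M (Matrix.toLin' A.1) (Matrix.toLin' B.1) x
  have h1 : evT θ M (Matrix.toLin' A.1) (Matrix.toLin' B.1) (coP M x) =
      Dl (piA (F := F) θ M x) (Matrix.toLin' A.1) (Matrix.toLin' B.1) := h0.symm
  rw [h1, Dl, ← avg_equiv (cmpE A)]
  have h2 : hcRes (jj (K := F) e).range (Ur e) (Om (F := F) θ M n x) h =
      avg (Ur e) fun y => Om (F := F) θ M n x ((h : GL (Fin n) F) * y) := by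
    rw [hcRes, avg, div_eq_inv_mul]
  rw [h2, ← avg_equiv (urE e)]
  congr 1
  funext t
  rw [urE_coe, ← hh]
  exact fn_jj_uu e (piA (F := F) θ M x) A B t

end Cfsg.Agent.H139.P5GL
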