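import Cfsg.Agent.H139.P5GL.Frame
import Cfsg.Agent.H623.GLn.Sec
import Cfsg.Agent.H76.GLB.Orbit

/-!
# S4536, P5GL: the Harish-Chandra restriction of the characters over one orbit

* `Ev_coP` : the coefficient of `X v` in the second factor of the coproduct of `x` is the partial derivative;
* `evT_coP` : the coproduct of `x` (variables over one orbit) on `GL_a × GL_d`;
* `exists_comb` : the functions `Om x ⊗ Om X_v`, `x` in the span of the derivatives, are integral combinations of
  Harish-Chandra restrictions.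
-/

set_option autoImplicit false
set_option linter.unusedSectionVars false

open Cfsg
open scoped MatrixGroups TensorProduct

namespace Cfsg.Agent.H139.P5GL

open Cfsg.Agent.H624.Sl Cfsg.Agent.H577.GLB Cfsg.Agent.H577.GLB.Real Cfsg.Agent.H577.GLB.Std
open Cfsg.Agent.H623.GLn (evT evT_tmul evA_apply omL omL_apply Om_monomial_ne)
open Cfsg.Agent.H614.GLn.RSt (Pw_eq canon_mem_repsZ perZ_of_same sameZ_canon perZ_pos)

universe u w

/-! ### the coproduct and the partial derivatives -/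

section coef

variable {M : ℕ}

open MvPolynomial

/-- a functional applied to the second factor -/
noncomputable def Ev (f : RS M →ₗ[ℂ] ℂ) : RS M ⊗[ℂ] RS M →ₗ[ℂ] RS M :=
  (TensorProduct.rid ℂ (RS M)).toLinearMap ∘ₗ TensorProduct.map LinearMap.id f

theorem Ev_tmul (f : RS M →ₗ[ℂ] ℂ) (y z : RS M) : Ev f (y ⊗ₜ[ℂ] z) = f z • y := by
  simp [Ev]

theorem Ev_mul_left (f : RS M →ₗ[ℂ] ℂ) (z : RS M ⊗[ℂ] RS M) (y : RS M) :
    Ev f (z * (y ⊗ₜ[ℂ] (1 : RS M))) = Ev f z * y := by
  induction z with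
  | zero => rw [zero_mul, map_zero, zero_mul]
  | add z z' hz hz' => rw [add_mul, map_add, map_add, hz, hz', add_mul]
  | tmul a b => rw [Algebra.TensorProduct.tmul_mul_tmul, Ev_tmul, Ev_tmul, mul_one, smul_mul_assoc]

theorem Ev_mul_right {f g : RS M →ₗ[ℂ] ℂ} {y : RS M} (h : ∀ b, f (b * y) = g b) (z : RS M ⊗[ℂ] RS M) :
    Ev f (z * ((1 : RS M) ⊗ₜ[ℂ] y)) = Ev g z := by
  induction z with
  | zero => rw [zero_mul, map_zero, map_zero]
  | add z z' hz hz' => rw [add_mul, map_add, map_add, hz, hz']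
  | tmul a b => rw [Algebra.TensorProduct.tmul_mul_tmul, Ev_tmul, Ev_tmul, mul_one, h]

theorem Ev_zero (z : RS M ⊗[ℂ] RS M) : Ev 0 z = 0 := by
  rw [Ev, TensorProduct.map_zero_right]
  simp

theorem coP_C (c : ℂ) : coP M (C c) = c • ((1 : RS M) ⊗ₜ[ℂ] (1 : RS M)) := by
  have h3 := AlgHom.commutes (coP M) c
  rw [Algebra.algebraMap_eq_smul_one (A := RS M ⊗[ℂ] RS M)] at h3
  exact h3

theorem coP_X (v : Var M) : coP M (X v) = (X v) ⊗ₜ[ℂ] (1 : RS M) + (1 : RS M) ⊗ₜ[ℂ] (X v) := by
  rw [coP, aeval_X]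

theorem Ev_coP_zero (x : RS M) : Ev (lcoeff ℂ 0) (coP M x) = x := by
  induction x using MvPolynomial.induction_on with
  | C c =>
    rw [coP_C, map_smul, Ev_tmul]
    change c • (coeff 0 (1 : RS M)) • (1 : RS M) = _
    rw [coeff_zero_one, one_smul, smul_eq_C_mul, mul_one]
  | add x y hx hy => rw [map_add, map_add, hx, hy]
  | mul_X x v hx =>
    have h1 : ∀ b : RS M, lcoeff ℂ 0 (b * X v) = (0 : RS M →ₗ[ℂ] ℂ) b := by
      intro b
      change coeff 0 (b * X v) = 0
      rw [coeff_mul_X', if_neg (by simp)]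
    rw [map_mul, coP_X, mul_add, map_add, Ev_mul_left, hx, Ev_mul_right h1, Ev_zero, add_zero]

/-- the coefficient of `X v` in the second factor of the coproduct is the partial derivative -/
theorem Ev_coP (v : Var M) (x : RS M) : Ev (lcoeff ℂ (Finsupp.single v 1)) (coP M x) = pderiv v x := by
  classical
  induction x using MvPolynomial.induction_on with
  | C c =>
    rw [coP_C, map_smul, Ev_tmul, pderiv_C]
    change c • (coeff (Finsupp.single v 1) (1 : RS M)) • (1 : RS M) = _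
    rw [coeff_one, if_neg, zero_smul, smul_zero]
    intro h
    have h1 := DFunLike.congr_fun h v
    rw [Finsupp.single_eq_same] at h1
    exact absurd h1 (by simp)
  | add x y hx hy => rw [map_add, map_add, hx, hy, map_add]
  | mul_X x v' hx =>
    rw [map_mul, coP_X, mul_add, map_add, Ev_mul_left, hx, Derivation.leibniz, pderiv_X, smul_eq_mul, smul_eq_mul]
    by_cases hv : v' = v
    · subst hv
      have h1 : ∀ b : RS M, lcoeff ℂ (Finsupp.single v' 1) (b * X v') = lcoeff ℂ 0 b := by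
        intro b
        change coeff _ (b * X v') = coeff 0 b
        rw [coeff_mul_X', if_pos (by simp), tsub_self]
      rw [Ev_mul_right h1, Ev_coP_zero, Pi.single_eq_same, mul_one]
      ring
    · have h1 : ∀ b : RS M, lcoeff ℂ (Finsupp.single v 1) (b * X v') = (0 : RS M →ₗ[ℂ] ℂ) b := by
        intro b
        change coeff _ (b * X v') = 0
        rw [coeff_mul_X', if_neg]
        rw [Finsupp.mem_support_iff, Finsupp.single_eq_of_ne hv]
        simp
      rw [Ev_mul_right h1, Ev_zero, Pi.single_eq_of_ne hv, mul_zero]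
      ring

theorem coP_mem_supp (T : Set (Var M)) {x : RS M} (hx : x ∈ supported ℂ T) :
    coP M x ∈ (Algebra.TensorProduct.map (supported ℂ T).val (supported ℂ T).val).range := by
  have h1 : supported ℂ T ≤ ((Algebra.TensorProduct.map (supported ℂ T).val (supported ℂ T).val).range).comap
      (coP M) := by
    refine Algebra.adjoin_le (S := ((Algebra.TensorProduct.map (supported ℂ T).val
      (supported ℂ T).val).range).comap (coP M)) ?_
    rintro _ ⟨v, hv, rfl⟩
    have h2 : (X v : RS M) ∈ supported ℂ T := Algebra.subset_adjoin ⟨v, hv, rfl⟩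
    refine ⟨(⟨X v, h2⟩ : supported ℂ T) ⊗ₜ[ℂ] 1 + 1 ⊗ₜ[ℂ] (⟨X v, h2⟩ : supported ℂ T), ?_⟩
    change Algebra.TensorProduct.map (supported ℂ T).val (supported ℂ T).val _ = coP M (X v)
    rw [map_add, Algebra.TensorProduct.map_tmul, Algebra.TensorProduct.map_tmul, coP_X, map_one]
    rfl
  exact h1 hx

theorem coP_congr (T : Set (Var M)) {x : RS M} (hx : x ∈ supported ℂ T) {g₁ g₁' g₂ g₂' : RS M →ₗ[ℂ] ℂ}
    (h₁ : ∀ a ∈ supported ℂ T, g₁ a = g₁' a) (h₂ : ∀ a ∈ supported ℂ T, g₂ a = g₂' a) :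
    LinearMap.mul' ℂ ℂ (TensorProduct.map g₁ g₂ (coP M x)) =
      LinearMap.mul' ℂ ℂ (TensorProduct.map g₁' g₂' (coP M x)) := by
  obtain ⟨w, hw⟩ := coP_mem_supp T hx
  rw [← hw]
  clear hw
  congr 1
  change TensorProduct.map g₁ g₂ (TensorProduct.map (supported ℂ T).val.toLinearMap
      (supported ℂ T).val.toLinearMap w) =
    TensorProduct.map g₁' g₂' (TensorProduct.map (supported ℂ T).val.toLinearMap
      (supported ℂ T).val.toLinearMap w)
  induction w with
  | zero => simp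
  | add w w' hw hw' => simp only [map_add, hw, hw']
  | tmul a b =>
    simp only [TensorProduct.map_tmul]
    congr 1
    · exact h₁ _ a.2
    · exact h₂ _ b.2

theorem mul'_map (g f : RS M →ₗ[ℂ] ℂ) (c : ℂ) (z : RS M ⊗[ℂ] RS M) :
    LinearMap.mul' ℂ ℂ (TensorProduct.map g (c • f) z) = g (Ev f z) * c := by
  induction z with
  | zero => simp
  | add z z' hz hz' => rw [map_add, map_add, map_add, map_add, hz, hz', add_mul]
  | tmul a b =>
    rw [TensorProduct.map_tmul, LinearMap.mul'_apply, Ev_tmul, map_smul, LinearMap.smul_apply, smul_eq_mul,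
      smul_eq_mul]
    ring

end coef

/-! ### evaluation -/

section ev

variable {F : Type u} [Field F] [Finite F] {K : Type w} [Field K] [Algebra F K] (θ : K →*₀ ℂ) (M : ℕ) [NeZero M]

open MvPolynomial

/-- the variables over one label -/
abbrev TT {M : ℕ} (b : ℕ) (c₀ : ZMod M) : Set (Var M) := {v | v.2 = c₀ ∧ b ∣ v.1 ∧ 0 < v.1}

theorem eq_single {b : ℕ} (hb : 0 < b) {c₀ : ZMod M} {m : Var M →₀ ℕ} (hm : ∀ v ∈ m.support, v ∈ TT b c₀)
    (hw : Finsupp.weight (fun v : Var M => v.1) m = b) : m = Finsupp.single (b, c₀) 1 := by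
  classical
  have h0 : m ≠ 0 := by
    rintro rfl
    rw [map_zero] at hw
    omega
  obtain ⟨v, hv⟩ := Finsupp.support_nonempty_iff.2 h0
  have h1 : Finsupp.single v 1 ≤ m := by
    rw [Finsupp.single_le_iff]
    exact Nat.one_le_iff_ne_zero.2 (Finsupp.mem_support_iff.1 hv)
  obtain ⟨m', rfl⟩ := exists_add_of_le h1
  obtain ⟨h2, h3, h4⟩ := hm v hv
  have h5 := Nat.le_of_dvd h4 h3
  rw [map_add, Finsupp.weight_single, one_smul] at hw
  have h6 : m' = 0 := by
    by_contra h7
    obtain ⟨v', hv'⟩ := Finsupp.support_nonempty_iff.2 h7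
    obtain ⟨-, -, h8⟩ := hm v' (by
      rw [Finsupp.mem_support_iff, Finsupp.add_apply]
      have := Finsupp.mem_support_iff.1 hv'
      omega)
    have h9 : Finsupp.single v' 1 ≤ m' := by
      rw [Finsupp.single_le_iff]
      exact Nat.one_le_iff_ne_zero.2 (Finsupp.mem_support_iff.1 hv')
    obtain ⟨m'', rfl⟩ := exists_add_of_le h9
    rw [map_add, Finsupp.weight_single, one_smul] at hw
    omega
  rw [h6, map_zero] at hw
  rw [h6, add_zero]
  congr 1
  exact Prod.ext (by simpa using hw) h2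

theorem Om_of_supp {b : ℕ} (hb : 0 < b) (c₀ : ZMod M) {y : RS M} (hy : y ∈ supported ℂ (TT b c₀))
    (B : GL (Fin b) F) :
    Om (F := F) θ M b y B = Om (F := F) θ M b (X (b, c₀)) B * coeff (Finsupp.single (b, c₀) 1) y := by
  classical
  have h1 : Om (F := F) θ M b y = ∑ m ∈ y.support, Om (F := F) θ M b (monomial m (coeff m y)) := by
    conv_lhs => rw [← support_sum_monomial_coeff y]
    rw [← omL_apply, map_sum]
    rfl
  rw [mem_supported] at hy
  have h2 : ∀ m ∈ y.support, ∀ v ∈ m.support, v ∈ TT b c₀ := fun m hm v hv =>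
    hy ((mem_vars_iff_mem_support v).2 ⟨m, hm, hv⟩)
  rw [h1, Finset.sum_apply, Finset.sum_eq_single (Finsupp.single (b, c₀) 1)]
  · have h3 : (monomial (Finsupp.single (b, c₀) 1) (coeff (Finsupp.single (b, c₀) 1) y) : RS M) =
        coeff (Finsupp.single (b, c₀) 1) y • X (b, c₀) := by
      rw [X, smul_monomial, smul_eq_mul, mul_one]
    rw [h3, ← omL_apply, map_smul, Pi.smul_apply, smul_eq_mul, omL_apply, mul_comm]
  · intro m hm hne
    rw [Om_monomial_ne θ _ fun h => hne (eq_single M hb (h2 m hm) h)]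
    rfl
  · intro h
    rw [notMem_support_iff.1 h, monomial_zero, ← omL_apply, map_zero]
    rfl

/-- the coproduct of `x` on `GL_a × GL_b`, if the weights of all variables of `x` are multiples of `b` -/
theorem evT_coP {a b : ℕ} (hb : 0 < b) (c₀ : ZMod M) {x : RS M} (hx : x ∈ supported ℂ (TT b c₀))
    (A : GL (Fin a) F) (B : GL (Fin b) F) :
    evT θ M (Matrix.toLin' A.1) (Matrix.toLin' B.1) (coP M x) =
      Om (F := F) θ M a (pderiv (b, c₀) x) A * Om (F := F) θ M b (X (b, c₀)) B := by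
  have h1 : evT θ M (Matrix.toLin' A.1) (Matrix.toLin' B.1) (coP M x) =
      LinearMap.mul' ℂ ℂ (TensorProduct.map (evA θ M (Matrix.toLin' A.1)) (evA θ M (Matrix.toLin' B.1))
        (coP M x)) := rfl
  rw [h1, coP_congr (TT b c₀) hx (g₁' := evA θ M (Matrix.toLin' A.1))
    (g₂' := Om (F := F) θ M b (X (b, c₀)) B • lcoeff ℂ (Finsupp.single (b, c₀) 1)) (fun _ _ => rfl) ?_,
    mul'_map, Ev_coP]
  · rfl
  · intro y hy
    exact Om_of_supp θ M hb c₀ hy B

end ev

section lab

variable {Q : ℤ} {M : ℕ} [NeZero M]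

open MvPolynomial Cfsg.Agent.H614

theorem SchP_mem_supp (hQ : IsUnit (Q : ZMod M)) {m n : ℕ} (t : LabZ Q M m n) {δ : ZMod M}
    (h : OnlyOn Q M δ t.t) : SchP Q M t.t ∈ supported ℂ (TT (perZ Q M δ) (canon Q M δ)) := by
  rw [Cfsg.Agent.H76.GLB.SchP_onlyOn hQ t h]
  unfold Cfsg.Agent.H614.GLn.SS Cfsg.Agent.H614.GLn.ZV
  refine Subalgebra.sum_mem _ fun ν _ => Subalgebra.smul_mem _ (Subalgebra.smul_mem _ ?_ _) _
  refine Subalgebra.multiset_prod_mem _ fun x hx => ?_
  obtain ⟨j, hj, rfl⟩ := Multiset.mem_map.1 hx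
  have hj0 : 0 < j := ν.parts_pos hj
  rw [Pw_eq hQ (canon_mem_repsZ hQ δ) hj0, ← perZ_of_same hQ (sameZ_canon δ)]
  exact Algebra.subset_adjoin ⟨_, ⟨rfl, Dvd.intro_left j rfl, Nat.mul_pos hj0 (perZ_pos hQ δ)⟩, rfl⟩

end lab

section comb

variable {F : Type u} [Field F] [Finite F] {K : Type u} [Field K] [Algebra F K] {θ : K →*₀ ℂ} {M : ℕ} [NeZero M]

open MvPolynomial

/-- the functions `Om x ⊗ Om X_v`, `x` in the span of the derivatives, are integral combinations of
Harish-Chandra restrictions of the characters over one orbit -/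
theorem exists_comb (hQ : IsUnit (((Nat.card F : ℕ) : ℤ) : ZMod M)) {a n m : ℕ} (δ : ZMod M)
    (e : ((Fin a → F) × (Fin (perZ (Nat.card F) M δ) → F)) ≃ₗ[F] (Fin n → F))
    {B : Set (IrrCharacter (GL (Fin n) F))}
    (hB : ∀ t : LabZ (Nat.card F) M m n, OnlyOn (Nat.card F) M δ t.t → ∃ χ ∈ B, IsLab θ M m n χ t)
    {x : RS M} (hx : x ∈ Submodule.span ℤ {x : RS M | ∃ t : LabZ (Nat.card F) M m n,
      OnlyOn (Nat.card F) M δ t.t ∧ x = pderiv (perZ (Nat.card F) M δ, canon (Nat.card F) M δ)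
        (SchP (Nat.card F) M t.t)}) :
    ∃ c : IrrCharacter (GL (Fin n) F) → ℤ, (∀ χ, χ ∉ B → c χ = 0) ∧
      ∀ (A : GL (Fin a) F) (C : GL (Fin (perZ (Nat.card F) M δ)) F) (h : (jj (K := F) e).range),
        jj (K := F) e (A, C) = h →
        Om (F := F) θ M a x A * Om (F := F) θ M _ (X (perZ (Nat.card F) M δ, canon (Nat.card F) M δ)) C =
          ∑ᶠ χ, (c χ : ℂ) * hcRes (jj (K := F) e).range (Ur e) (χ : GL (Fin n) F → ℂ) h := by
  classical
  have := Characters.Core.finite_irr (G := GL (Fin n) F)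
  have := Fintype.ofFinite (IrrCharacter (GL (Fin n) F))
  induction hx using Submodule.span_induction with
  | mem x hx =>
    obtain ⟨t, ht, rfl⟩ := hx
    obtain ⟨χ, hχ, s, hs⟩ := hB t ht
    refine ⟨Pi.single χ (s : ℤ), ?_, ?_⟩
    · intro χ' hχ'
      refine Pi.single_eq_of_ne (fun h => hχ' ?_) _
      rw [h]
      exact hχ
    · intro A C h hh
      rw [← evT_coP θ M (perZ_pos hQ δ) (canon (Nat.card F) M δ) (SchP_mem_supp hQ t ht) A C,
        ← hcRes_Om e θ M _ A C h hh, hs, finsum_eq_single _ χ]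
      · rw [Pi.single_eq_same]
        unfold hcRes
        have := Fintype.ofFinite (Ur e)
        rw [finsum_eq_sum_of_fintype, finsum_eq_sum_of_fintype, ← mul_div_assoc, Finset.mul_sum]
        rfl
      · intro χ' hne
        rw [Pi.single_eq_of_ne hne, Int.cast_zero, zero_mul]
  | zero =>
    refine ⟨0, fun _ _ => rfl, fun A C h _ => ?_⟩
    rw [← omL_apply, map_zero]
    simp
  | add x y _ _ hx hy =>
    obtain ⟨c, hc, hc'⟩ := hx
    obtain ⟨d, hd, hd'⟩ := hy
    refine ⟨c + d, fun χ hχ => by rw [Pi.add_apply, hc χ hχ, hd χ hχ, add_zero], fun A C h hh => ?_⟩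
    have h1 : Om (F := F) θ M a (x + y) A = Om (F := F) θ M a x A + Om (F := F) θ M a y A := by
      rw [← omL_apply, map_add]
      rfl
    rw [h1, add_mul, hc' A C h hh, hd' A C h hh, finsum_eq_sum_of_fintype, finsum_eq_sum_of_fintype,
      finsum_eq_sum_of_fintype, ← Finset.sum_add_distrib]
    refine Finset.sum_congr rfl fun χ _ => ?_
    rw [Pi.add_apply]
    push_cast
    ring
  | smul k x _ hx =>
    obtain ⟨c, hc, hc'⟩ := hx
    refine ⟨k • c, fun χ hχ => by rw [Pi.smul_apply, hc χ hχ, smul_zero], fun A C h hh => ?_⟩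
    have h1 : Om (F := F) θ M a (k • x) A = (k : ℂ) * Om (F := F) θ M a x A := by
      rw [← omL_apply, ← Int.cast_smul_eq_zsmul ℂ, map_smul]
      rfl
    rw [h1, mul_assoc, hc' A C h hh, finsum_eq_sum_of_fintype, finsum_eq_sum_of_fintype, Finset.mul_sum]
    refine Finset.sum_congr rfl fun χ _ => ?_
    rw [Pi.smul_apply, smul_eq_mul]
    push_cast
    ring

end comb

end Cfsg.Agent.H139.P5GL
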