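import Cfsg.Agent.H139.P5GL.Hg
import Cfsg.Agent.H166.GLB.HC
import Cfsg.Agent.H614.GLn.HBC
import Cfsg.Agent.H166.GLB.P5
import Cfsg.Agent.H614.GLn.Pure
import Cfsg.Agent.H614.GLn.GB1
import Cfsg.Agent.H112.GLB.Main
import Cfsg.Agent.H76.GLB.DE2

/-!
# S4536, P5GL: at least `p(w - 1)` Brauer characters of the family `Δ^w` stay irreducible
-/

set_option autoImplicit false
set_option linter.unusedSectionVars false

open Cfsg
open scoped MatrixGroups TensorProduct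

namespace Cfsg.Agent.H139.P5GL

open Cfsg.Agent.H577.GLB Cfsg.Agent.H577.GLB.Std Cfsg.Agent.H577.GLB.Real Cfsg.Agent.H614.GLn
open Cfsg.Agent.H657 Cfsg.Agent.H624.Sl Cfsg.Agent.H112.GLB
open Cfsg.Agent.H666.Clif (pKer)
open Cfsg.Agent.H608.BlockRank (IsUnion)
open Cfsg.Agent.H466.Sl (onto coe_onto)

universe u

variable {F : Type u} [Field F] [Finite F] {K : Type u} [Field K] [Algebra F K] {θ : K →*₀ ℂ} {N M : ℕ} [NeZero M]
  {p : ℕ} {𝔐 : Ideal AlgInt} {V : ValuationSubring ℂ}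

theorem pOnly_of_onlyOn {Q : ℤ} {m n : ℕ} {δ : ZMod M} (hδ : PReg M p δ)
    {t : LabZ Q M m n} (ht : OnlyOn Q M δ t.t) : POnly M p t.t := by
  intro c hc
  by_contra h
  obtain ⟨j, rfl⟩ := ht c (Nat.pos_of_ne_zero h)
  apply hc
  refine Nat.Coprime.coprime_dvd_left ?_ hδ
  apply addOrderOf_dvd_of_nsmul_eq_zero
  rw [← mul_smul_comm, addOrderOf_nsmul_eq_zero, mul_zero]

/-- at least `p(w-1)` of the Brauer characters in the family `Δ^w` stay irreducible on the kernel of the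
`p`-characters -/
theorem card_irred_GL (hctx : Ctx F θ N M) (hpF : p ≠ ringChar F) (h𝔐 : IsPModular p 𝔐) (hV : Above 𝔐 V)
    (hq : ((Nat.card F : ℕ) : ZMod p) = 1) {m n : ℕ} (hn : n ≤ N) (hm : n ≤ m) (t₀ : LabZ (Nat.card F) M m n)
    (h₀ : POnly M p t₀.t) (δ₀ : ZMod M) (h₁ : OnlyOn (Nat.card F) M δ₀ t₀.t) (hw : 2 ≤ Std.bsz (t₀.t δ₀))
    (O : IBr V (GL (Fin n) F) → Finset (IBr V (pKer (slS F n) p)))
    (hO : ∀ i ∈ ibrUnder V (famSet θ p t₀), IsRes p (pKer (slS F n) p) i (O i)) :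
    Fintype.card (Nat.Partition (Std.bsz (t₀.t δ₀) - 1)) ≤
      Nat.card {i : IBr V (GL (Fin n) F) // i ∈ ibrUnder V (famSet θ p t₀) ∧ (O i).card = 1} := by
  classical
  have hp := h𝔐.1
  have : Fact p.Prime := ⟨hp⟩
  have hMp := Cfsg.Agent.Blocks.Local.isPrime_of_isPModular h𝔐
  have hQ : IsUnit (((Nat.card F : ℕ) : ℤ) : ZMod M) := (GLrz hctx hp hpF hn).unit
  have hQp : (((Nat.card F : ℕ) : ℤ) : ZMod p) = 1 := by rw [Int.cast_natCast, hq]
  have hδ : PReg M p δ₀ := by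
    by_contra h
    have := h₀ δ₀ h
    omega
  have hsize := H76.GLB.size_onlyOn hQ t₀ h₁
  obtain ⟨w, hw'⟩ : ∃ w, Std.bsz (t₀.t δ₀) = w + 1 := ⟨Std.bsz (t₀.t δ₀) - 1, by omega⟩
  rw [hw'] at hsize hw ⊢
  rw [Nat.add_sub_cancel]
  subst hsize
  have hd : 0 < perZ (Nat.card F) M δ₀ := H614.GLn.RSt.perZ_pos hQ δ₀
  have hwm : w ≤ m := by nlinarith
  have hn0 : 0 < perZ (Nat.card F) M δ₀ * (w + 1) := Nat.mul_pos hd (Nat.succ_pos w)
  have ha : perZ (Nat.card F) M δ₀ * w ≤ perZ (Nat.card F) M δ₀ * (w + 1) := Nat.mul_le_mul_left _ (Nat.le_succ w)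
  have hb : perZ (Nat.card F) M δ₀ ≤ perZ (Nat.card F) M δ₀ * (w + 1) := Nat.le_mul_of_pos_right _ (Nat.succ_pos w)
  -- the labels
  let e : ((Fin (perZ (Nat.card F) M δ₀ * w) → F) × (Fin (perZ (Nat.card F) M δ₀) → F)) ≃ₗ[F]
      (Fin (perZ (Nat.card F) M δ₀ * (w + 1)) → F) :=
    LinearEquiv.ofFinrankEq _ _ (by simp [mul_add])
  obtain ⟨t₂, ht₂, ho₂, hb₂⟩ := H76.GLB.exists_cuspLab (Q := Nat.card F) hQ (m := m) (by omega) δ₀
  have hXfin : Finite (H76.GLB.XX m w) := Nat.finite_of_card_ne_zero (by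
    rw [H76.GLB.card_XX hwm]; exact Fintype.card_ne_zero)
  have hcard : Nat.card (H76.GLB.XX m w) = Fintype.card (Nat.Partition w) := H76.GLB.card_XX hwm
  let E : Fin (Fintype.card (Nat.Partition w)) ≃ H76.GLB.XX m w :=
    (finCongr hcard.symm).trans (Finite.equivFin (H76.GLB.XX m w)).symm
  let t : Fin (Fintype.card (Nat.Partition w)) → LabZ (Nat.card F) M m (perZ (Nat.card F) M δ₀ * w) := fun s =>
    H76.GLB.mkL hQ δ₀ (E s).1 (E s).2.1 (E s).2.2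
  have hto : ∀ s, OnlyOn (Nat.card F) M δ₀ (t s).t := fun s => H76.GLB.mkL_onlyOn hQ δ₀ (E s).1 (E s).2.1 (E s).2.2
  have htp : ∀ s, POnly M p (t s).t := fun s => pOnly_of_onlyOn hδ (hto s)
  have htinj : Function.Injective t := by
    intro s s' hss
    apply E.injective
    apply Subtype.ext
    have h1 := congrArg (fun l : LabZ (Nat.card F) M m (perZ (Nat.card F) M δ₀ * w) => l.t δ₀) hss
    simpa only [t, H76.GLB.mkL_self] using h1
  obtain ⟨s₀⟩ : Nonempty (Fin (Fintype.card (Nat.Partition w))) := ⟨⟨0, Fintype.card_pos⟩⟩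
  have hlab := isLab_bij hctx hn hm
  have hinj := Cfsg.Agent.H901.Sl.jj_injective (K := F) e
  set L := (jj (K := F) e).range with hL
  let φ := onto (jj (K := F) e) hinj L rfl
  have hcyc : IsCyclic (GL (Fin (perZ (Nat.card F) M δ₀ * (w + 1))) F ⧸ slS F _) :=
    H666.Clif.isCyclic_quot_SK hn0
  have hle := H666.Clif.le_pKer (slS F (perZ (Nat.card F) M δ₀ * (w + 1))) p
  obtain ⟨lp, lq, k, k', -, -, hlp, -, hK, -, -⟩ := H666.Clif.exists_split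
    (slS F (perZ (Nat.card F) M δ₀ * (w + 1))) hcyc hp
  have hi : Nat.card (GL (Fin (perZ (Nat.card F) M δ₀ * (w + 1))) F ⧸
      pKer (slS F (perZ (Nat.card F) M δ₀ * (w + 1))) p) = p ^ k := by
    have : (pKer (slS F (perZ (Nat.card F) M δ₀ * (w + 1))) p).index = p ^ k := by
      rw [hK, H666.Clif.index_ker, hlp]
    exact this
  have hfam : ∀ t : LabZ (Nat.card F) M m (perZ (Nat.card F) M δ₀ * (w + 1)), OnlyOn (Nat.card F) M δ₀ t.t →
      ∃ χ ∈ famSet θ p t₀, IsLab θ M m _ χ t := by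
    intro t ht
    obtain ⟨χ, hχ, -⟩ := hlab.2 t
    refine ⟨χ, ⟨t, hχ, ?_⟩, hχ⟩
    rw [H76.GLB.sameFam_iff hp hQp h₀ (pOnly_of_onlyOn hδ ht)]
    intro c
    by_cases hc : SameZ (Nat.card F) M δ₀ c
    · rw [H76.GLB.orb_same t₀ hc, H76.GLB.orb_same t hc, hw']
      exact Nat.eq_of_mul_eq_mul_left hd (H76.GLB.size_onlyOn hQ t ht)
    · have h2 : Std.bsz (t₀.t c) = 0 := by
        by_contra h
        exact hc (h₁ c (Nat.pos_of_ne_zero h))
      have h3 : Std.bsz (t.t c) = 0 := by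
        by_contra h
        exact hc (ht c (Nat.pos_of_ne_zero h))
      rw [h2, h3]
  refine H166.GLB.le_card_irred h𝔐 hV (pKer (slS F _) p) (H666.Clif.isCyclic_quot hle hcyc) hi L (Ur e)
    (card_Ur e hp hpF) (conj_mem_Ur e) (disjoint_Ur e) ((Ur_le e).trans hle) (sup_slS e hd hle)
    (B := famSet θ p t₀) ?_ O hO
    (ibrUnder V (prodBlk L (jj (K := F) e) (famSet θ p (t s₀)) (famSet θ p t₂)))
    (fun j hj => H166.GLB.hC_prod hctx hpF h𝔐 hV hq hn hm hd e (t s₀) t₂ (pOnly_of_onlyOn hδ ho₂) δ₀ hb₂ hj)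
    (fun i hi μ hμ j hj => H614.GLn.RSt.hBC_prod hctx hpF h𝔐 hV hn hm e (Ur e) (card_Ur e hp hpF) (conj_mem_Ur e)
      (fun x A B h hh => hcRes_Om e θ M x A B h hh) t₀ h₀ δ₀ h₁ (t s₀) (htp s₀) (hto s₀) t₂
      (pOnly_of_onlyOn hδ ho₂) ho₂ hq hi μ hμ j hj)
    (r := Fintype.card (Nat.Partition w))
    (fun s x => (GLrz hctx hp hpF (ha.trans hn)).om (SchP (Nat.card F) M (t s).t) (φ.symm x).1 *
      (GLrz hctx hp hpF (hb.trans hn)).om (SchP (Nat.card F) M t₂.t) (φ.symm x).2) ?_ ?_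
  · exact isUnion_famSet_lab hctx hpF h𝔐 hn hm hlab t₀
  · intro s
    obtain ⟨c, hc, hc'⟩ := exists_comb (θ := θ) hQ δ₀ e hfam
      (H76.GLB.mem_span_pderiv (Q := Nat.card F) hQ δ₀ hm (t s) (hto s))
    refine ⟨c, hc, fun x _ => ?_⟩
    obtain ⟨⟨A, C⟩, rfl⟩ := φ.surjective x
    rw [← hc' A C (φ (A, C)) rfl, φ.symm_apply_apply, ht₂, rv, if_pos ⟨hd, (H614.GLn.RSt.torZ_iff _ δ₀).2 dvd_rfl⟩]
    rfl
  · intro c h H s
    exact H614.GLn.RSt.pure_prod h𝔐 hV φ (GLrz hctx hp hpF (ha.trans hn)) (GLrz hctx hp hpF (hb.trans hn))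
      (ha.trans hm) (hb.trans hm) (isLab_bij hctx (ha.trans hn) (ha.trans hm))
      (isLab_bij hctx (hb.trans hn) (hb.trans hm)) t htinj htp t₂ (pOnly_of_onlyOn hδ ho₂) c h H s

end Cfsg.Agent.H139.P5GL
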